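import Cfsg.Agent.H54.QA.PspDef
import Cfsg.Agent.H152.QA.PTools
import Cfsg.Agent.H306.QA.RatConj
import Cfsg.Agent.H123.RowPSp
import Cfsg.Agent.H510.CS.PSpLat
import Cfsg.Agent.H128.CS.PspOdd
import Cfsg.Agent.S0270

/-!
# S4979, layer (A): the row `PSp_2m(s)`, `s` odd, `p` prime to `s` and to `|Sp_2m-2(s)|` (helper54)

`x ∈ S` of order `p` has `|C_S(x)| = (s ^ m ± 1) / 2`; the character bound with the minimal degree `(s ^ m - 1) / 2`.
-/

set_option autoImplicit false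
set_option linter.unusedSectionVars false

namespace Cfsg.Agent.H54.QA

open Matrix Cfsg Cfsg.Agent.H152.QA Cfsg.Agent.H80.Fpf

/-! ### numerics -/

/-- `s ^ 8 < 7 ^ (s ^ 2 / 4)` for `s ≥ 7` -/
theorem num_two (s : ℕ) (hs : 7 ≤ s) : s ^ 8 < 7 ^ (s ^ 2 / 4) := by
  induction s, hs using Nat.le_induction with
  | base => norm_num
  | succ s hs ih =>
    have h1 : 7 * (s + 1) ≤ 8 * s := by omega
    have h2 : (7 * (s + 1)) ^ 8 ≤ (8 * s) ^ 8 := Nat.pow_le_pow_left h1 8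
    have h3 : s ^ 2 / 4 + 1 ≤ (s + 1) ^ 2 / 4 := by
      have : (s + 1) ^ 2 = s ^ 2 + 2 * s + 1 := by ring
      omega
    have h4 : 7 ^ (s ^ 2 / 4 + 1) ≤ 7 ^ ((s + 1) ^ 2 / 4) := Nat.pow_le_pow_right (by norm_num) h3
    rw [mul_pow, mul_pow] at h2
    rw [pow_succ] at h4
    have h5 : (7 : ℕ) ^ 8 = 5764801 := by norm_num
    have h6 : (8 : ℕ) ^ 8 = 16777216 := by norm_num
    rw [h5, h6] at h2
    omega

theorem num_step {s m : ℕ} (hs : 3 ≤ s) (hm : 2 ≤ m) (h : s ^ (2 * m ^ 2) < 7 ^ (s ^ m / 4)) :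
    s ^ (2 * (m + 1) ^ 2) < 7 ^ (s ^ (m + 1) / 4) := by
  have h1 : s ^ (2 * (m + 1) ^ 2) ≤ (s ^ (2 * m ^ 2)) ^ 3 := by
    rw [← pow_mul]
    apply Nat.pow_le_pow_right (by omega)
    nlinarith
  have h2 : s ^ m / 4 * 3 ≤ s ^ (m + 1) / 4 := by
    rw [pow_succ]
    have h3 : s ^ m * 3 ≤ s ^ m * s := Nat.mul_le_mul_left _ hs
    omega
  calc s ^ (2 * (m + 1) ^ 2) ≤ (s ^ (2 * m ^ 2)) ^ 3 := h1
    _ < (7 ^ (s ^ m / 4)) ^ 3 := Nat.pow_lt_pow_left h (by norm_num)
    _ = 7 ^ (s ^ m / 4 * 3) := (pow_mul _ _ _).symm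
    _ ≤ _ := Nat.pow_le_pow_right (by norm_num) h2

theorem num_from {s m0 : ℕ} (hs : 3 ≤ s) (hm0 : 2 ≤ m0) (h : s ^ (2 * m0 ^ 2) < 7 ^ (s ^ m0 / 4)) (m : ℕ) (hm : m0 ≤ m) :
    s ^ (2 * m ^ 2) < 7 ^ (s ^ m / 4) := by
  induction m, hm using Nat.le_induction with
  | base => exact h
  | succ m hm ih => exact num_step hs (by omega) ih

theorem num_main {s m : ℕ} (hs : 3 ≤ s) (hso : Odd s) (hm : 2 ≤ m) (h1 : ¬ (m = 2 ∧ s = 3)) (h2 : ¬ (m = 2 ∧ s = 5))
    (h3 : ¬ (m = 3 ∧ s = 3)) : 49 ≤ s ^ m ∧ s ^ (2 * m ^ 2) < 7 ^ (s ^ m / 4) := by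
  by_cases h7 : 7 ≤ s
  · refine ⟨?_, num_from hs le_rfl (num_two s h7) m hm⟩
    calc 49 = 7 ^ 2 := by norm_num
      _ ≤ s ^ 2 := Nat.pow_le_pow_left h7 2
      _ ≤ s ^ m := Nat.pow_le_pow_right (by omega) hm
  have h35 : s = 3 ∨ s = 5 := by
    obtain ⟨k, hk⟩ := hso
    omega
  rcases h35 with rfl | rfl
  · have hm4 : 4 ≤ m := by omega
    refine ⟨?_, num_from hs (by norm_num) (m0 := 4) (by norm_num) m hm4⟩
    calc 49 ≤ 3 ^ 4 := by norm_num
      _ ≤ 3 ^ m := Nat.pow_le_pow_right (by omega) hm4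
  · have hm3 : 3 ≤ m := by omega
    refine ⟨?_, num_from hs (by norm_num) (m0 := 3) (by norm_num) m hm3⟩
    calc 49 ≤ 5 ^ 3 := by norm_num
      _ ≤ 5 ^ m := Nat.pow_le_pow_right (by omega) hm3

/-- `∏ (s ^ 2i - 1) ≤ (s ^ m - 1) s ^ (m ^ 2)` -/
theorem prod_le {s : ℕ} (hs : 2 ≤ s) (m : ℕ) (hm : 2 ≤ m) :
    ∏ i ∈ Finset.range m, (s ^ (2 * (i + 1)) - 1) ≤ (s ^ m - 1) * s ^ (m ^ 2) := by
  induction m, hm using Nat.le_induction with
  | base =>
    rw [Finset.prod_range_succ, Finset.prod_range_succ, Finset.prod_range_zero, one_mul]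
    exact Nat.mul_le_mul_left _ (Nat.sub_le _ _)
  | succ m hm ih =>
    rw [Finset.prod_range_succ]
    have h1 : (s ^ m - 1) * s ≤ s ^ (m + 1) - 1 := by
      rw [Nat.sub_mul, one_mul, ← pow_succ]
      omega
    calc (∏ i ∈ Finset.range m, (s ^ (2 * (i + 1)) - 1)) * (s ^ (2 * (m + 1)) - 1)
        ≤ ((s ^ m - 1) * s ^ (m ^ 2)) * s ^ (2 * (m + 1)) := Nat.mul_le_mul ih (Nat.sub_le _ _)
      _ = ((s ^ m - 1) * s) * s ^ ((m + 1) ^ 2) := by
        have : s ^ ((m + 1) ^ 2) * s = s ^ (m ^ 2) * s ^ (2 * (m + 1)) := by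
          rw [← pow_succ, ← pow_add]
          congr 1
          ring
        rw [mul_assoc, ← this]
        ring
      _ ≤ (s ^ (m + 1) - 1) * s ^ ((m + 1) ^ 2) := Nat.mul_le_mul_right _ h1

/-- the exponent -/
theorem exp_le {p Q : ℕ} (hp : 5 ≤ p) (hQ : 49 ≤ Q) :
    Q / 4 ≤ ((p - 1) * ((Q - 1) / 2 - (Q + 5) / 9) + (p - 1)) / p := by
  rw [Nat.le_div_iff_mul_le (by omega)]
  set X := (Q - 1) / 2 - (Q + 5) / 9 with hX
  obtain ⟨k, rfl⟩ : ∃ k, p = k + 1 := ⟨p - 1, by omega⟩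
  rw [Nat.add_sub_cancel]
  have h1 : 5 * (Q / 4) ≤ 4 * (X + 1) := by omega
  have h2 : 4 ≤ k := by omega
  have h3 : k * (5 * (Q / 4)) ≤ k * (4 * (X + 1)) := Nat.mul_le_mul_left _ h1
  have h4 : 4 * (Q / 4) ≤ k * (Q / 4) := Nat.mul_le_mul_right _ h2
  have h5 : Q / 4 * (k + 1) = k * (Q / 4) + Q / 4 := by ring
  have h6 : k * (5 * (Q / 4)) = 5 * (k * (Q / 4)) := by ring
  have h7 : k * (4 * (X + 1)) = 4 * (k * X + k) := by ring
  omega

theorem sq_ge {Q C : ℕ} (hQ : 49 ≤ Q) (hC : 2 * C ≤ Q + 1) : C ≤ ((Q + 5) / 9) ^ 2 := by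
  set c := (Q + 5) / 9 with hc
  have h1 : 6 ≤ c := by omega
  have h2 : Q ≤ 9 * c + 3 := by omega
  nlinarith

/-! ### the prime -/

section

variable {F : Type} [Field F] [Fintype F] {p q : ℕ}

theorem dvd_iff_ord {s : ℕ} (hs : 1 ≤ s) (k : ℕ) :
    p ∣ s ^ k - 1 ↔ orderOf ((s : ℕ) : ZMod p) ∣ k := by
  rw [orderOf_dvd_iff_pow_eq_one, ← ZMod.natCast_eq_zero_iff, Nat.cast_sub (Nat.one_le_pow _ _ hs), Nat.cast_pow,
    Nat.cast_one, sub_eq_zero]

theorem order_top {m : ℕ} (hm : 2 ≤ m) (hp : p.Prime) (hpF : ¬ p ∣ Fintype.card F)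
    (hS : p ∣ Nat.card (symplecticGroup (Fin m) F)) (h1 : ¬ p ∣ Nat.card (symplecticGroup (Fin (m - 1)) F)) :
    orderOf ((Fintype.card F : ℕ) : ZMod p) = 2 * m ∨
      (Odd m ∧ 3 ≤ m ∧ orderOf ((Fintype.card F : ℕ) : ZMod p) = m) := by
  have : Fact p.Prime := ⟨hp⟩
  have hs1 : 1 ≤ Fintype.card F := Fintype.card_pos
  obtain ⟨a, rfl⟩ : ∃ a, m = a + 1 := ⟨m - 1, by omega⟩
  rw [Nat.add_sub_cancel, Cfsg.Agent.S0245.result (F := F) rfl] at h1
  rw [Cfsg.Agent.S0245.result (F := F) rfl, Finset.prod_range_succ] at hS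
  set s := Fintype.card F with hs
  set o := orderOf ((s : ℕ) : ZMod p) with ho
  have hps : ∀ k, ¬ p ∣ s ^ k := fun k hk => hpF (hp.dvd_of_dvd_pow hk)
  have h2 : ¬ p ∣ ∏ i ∈ Finset.range a, (s ^ (2 * (i + 1)) - 1) := fun h => h1 (h.mul_left _)
  have h3 : p ∣ s ^ (2 * (a + 1)) - 1 := by
    rcases hp.dvd_mul.1 hS with h | h
    · exact absurd h (hps _)
    · exact (hp.dvd_mul.1 h).resolve_left h2
  have h4 : ∀ i, 1 ≤ i → i ≤ a → ¬ o ∣ 2 * i := by
    intro i hi hia hd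
    apply h2
    have h5 : p ∣ s ^ (2 * ((i - 1) + 1)) - 1 := by
      rw [dvd_iff_ord hs1, Nat.sub_add_cancel hi]
      exact hd
    exact h5.trans (Finset.dvd_prod_of_mem (fun i => s ^ (2 * (i + 1)) - 1) (Finset.mem_range.2 (by omega)))
  have h5 : o ∣ 2 * (a + 1) := (dvd_iff_ord hs1 _).1 h3
  have ho0 : 0 < o := Nat.pos_of_dvd_of_pos h5 (by omega)
  rcases Nat.even_or_odd' o with ⟨b, hb | hb⟩
  · left
    have h6 : b ∣ a + 1 := by
      rw [hb] at h5
      exact Nat.dvd_of_mul_dvd_mul_left (by norm_num) h5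
    have h7 : b ≤ a + 1 := Nat.le_of_dvd (by omega) h6
    have h8 : ¬ b ≤ a := fun h8 => h4 b (by omega) h8 (by rw [hb])
    have h9 : b = a + 1 := by omega
    rw [hb, h9]
  · right
    have hodd : Odd o := ⟨b, hb⟩
    have h6 : o ∣ a + 1 := (Nat.Coprime.dvd_mul_left (Nat.Coprime.symm (Nat.coprime_two_left.2 hodd))).1 h5
    have h7 : o ≤ a + 1 := Nat.le_of_dvd (by omega) h6
    have h8 : ¬ o ≤ a := fun h8 => h4 o ho0 h8 (dvd_mul_left _ _)
    have h9 : o = a + 1 := by omega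
    rw [h9] at hodd
    refine ⟨hodd, ?_, h9⟩
    obtain ⟨c, hc⟩ := hodd
    omega

theorem card_cent_top {m : ℕ} (hm : 2 ≤ m) (hodd : Odd (Fintype.card F)) (hp : p.Prime) (hpF : ¬ p ∣ Fintype.card F)
    (ho : orderOf ((Fintype.card F : ℕ) : ZMod p) = 2 * m ∨
      (Odd m ∧ 3 ≤ m ∧ orderOf ((Fintype.card F : ℕ) : ZMod p) = m)) {x : PSp m F} (hx : orderOf x = p) :
    2 * Nat.card (Subgroup.centralizer ({x} : Set (PSp m F))) = Fintype.card F ^ m + 1 ∨
      2 * Nat.card (Subgroup.centralizer ({x} : Set (PSp m F))) = Fintype.card F ^ m - 1 := by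
  obtain ⟨l, hl⟩ := CharP.exists F
  obtain ⟨n', hlp, hn'⟩ := FiniteField.card F l
  obtain ⟨n, hn0, hn⟩ : ∃ n : ℕ, 1 ≤ n ∧ Fintype.card F = l ^ n := ⟨n', n'.pos, hn'⟩
  have hpl : p ≠ l := by
    rintro rfl
    exact hpF (hn ▸ dvd_pow_self p (by omega))
  have hsame : Cfsg.Agent.H431.CS.Same (PSp m F) (PSp m F) := ⟨rfl, rfl⟩
  have hg : Nat.gcd 2 (Fintype.card F - 1) = 2 := Nat.gcd_eq_left (by obtain ⟨t, ht⟩ := hodd; omega)
  have hQ : Odd (Fintype.card F ^ m) := hodd.pow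
  obtain ⟨k, hk⟩ := hQ
  rcases ho with ho | ⟨hm1, hm3, ho⟩
  · left
    rw [hn] at ho
    have h1 := Cfsg.Agent.H510.CS.lat_psp_top hlp hn0 hn hm hp ho
    have h2 := h1.card_cent hp hlp hpl hsame (y := x) (by rw [hx])
    rw [h2, ← hn, hg]
    omega
  · right
    rw [hn] at ho
    have h1 := Cfsg.Agent.H128.CS.lat_psp_odd hlp hn0 hn hm3 hm1 hp ho
    have h2 := h1.card_cent hp hlp hpl hsame (y := x) (by rw [hx])
    rw [h2, ← hn, hg]
    omega

theorem card_PSp_two {m : ℕ} (hm : 1 ≤ m) (ho : Odd (Fintype.card F)) : 2 * Nat.card (PSp m F) =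
    Fintype.card F ^ (m ^ 2) * ∏ i ∈ Finset.range m, (Fintype.card F ^ (2 * (i + 1)) - 1) := by
  have h1 := Cfsg.Agent.S0245.result (F := F) rfl m
  have h2 := Cfsg.Agent.S0246.result (F := F) rfl m hm
  have h3 := Subgroup.card_eq_card_quotient_mul_card_subgroup (Subgroup.center (symplecticGroup (Fin m) F))
  have hg : Nat.gcd 2 (Fintype.card F - 1) = 2 := Nat.gcd_eq_left (by obtain ⟨t, ht⟩ := ho; omega)
  rw [h1, h2, hg] at h3
  rw [h3, mul_comm]

theorem index_mul_cent_le {S : Type*} [Group S] [Finite S] (x : S) :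
    (Subgroup.normalizer ((Subgroup.zpowers x : Subgroup S) : Set S)).index *
      Nat.card (Subgroup.centralizer ({x} : Set S)) ≤ Nat.card S := by
  rw [← Subgroup.index_mul_card (Subgroup.normalizer ((Subgroup.zpowers x : Subgroup S) : Set S))]
  apply Nat.mul_le_mul_left
  have h1 : Subgroup.centralizer ({x} : Set S) ≤ Subgroup.normalizer ((Subgroup.zpowers x : Subgroup S) : Set S) := by
    have h2 := Cfsg.Agent.H306.QA.centralizer_le_normalizer' (Subgroup.zpowers x)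
    rwa [Subgroup.zpowers_eq_closure, Subgroup.centralizer_closure, ← Subgroup.zpowers_eq_closure] at h2
  exact Nat.card_le_card_of_injective _ (Subgroup.inclusion_injective h1)

theorem index_top {m : ℕ} (hm : 2 ≤ m) (ho : Odd (Fintype.card F)) {x : PSp m F}
    (hc : Fintype.card F ^ m - 1 ≤ 2 * Nat.card (Subgroup.centralizer ({x} : Set (PSp m F)))) :
    (Subgroup.normalizer ((Subgroup.zpowers x : Subgroup (PSp m F)) : Set (PSp m F))).index ≤
      Fintype.card F ^ (2 * m ^ 2) := by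
  have h1 := index_mul_cent_le x
  have h2 := card_PSp_two (F := F) (m := m) (by omega) ho
  have hs2 : 2 ≤ Fintype.card F := Fintype.one_lt_card
  have h3 := prod_le hs2 m hm
  set s := Fintype.card F with hs
  set I := (Subgroup.normalizer ((Subgroup.zpowers x : Subgroup (PSp m F)) : Set (PSp m F))).index with hI
  have h4 : (s ^ m - 1) * I ≤ (s ^ m - 1) * s ^ (2 * m ^ 2) := by
    calc (s ^ m - 1) * I ≤ 2 * Nat.card (Subgroup.centralizer ({x} : Set (PSp m F))) * I := Nat.mul_le_mul_right _ hc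
      _ = 2 * (I * Nat.card (Subgroup.centralizer ({x} : Set (PSp m F)))) := by ring
      _ ≤ 2 * Nat.card (PSp m F) := Nat.mul_le_mul_left _ h1
      _ = s ^ (m ^ 2) * ∏ i ∈ Finset.range m, (s ^ (2 * (i + 1)) - 1) := h2
      _ ≤ s ^ (m ^ 2) * ((s ^ m - 1) * s ^ (m ^ 2)) := Nat.mul_le_mul_left _ h3
      _ = (s ^ m - 1) * s ^ (2 * m ^ 2) := by
        rw [two_mul, pow_add]
        ring
  refine Nat.le_of_mul_le_mul_left h4 ?_
  have : 2 ^ 1 ≤ s ^ m := (Nat.pow_le_pow_left hs2 1).trans (Nat.pow_le_pow_right (by omega) (by omega))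
  omega

/-! ### the row -/

theorem cover_id {m : ℕ} (hm : 2 ≤ m) (ho : Odd (Fintype.card F)) : IsCover (MonoidHom.id (PSp m F)) := by
  refine ⟨Function.surjective_id, ?_, ?_⟩
  · rw [MonoidHom.ker_id]
    exact bot_le
  · have hs3 : 3 ≤ Fintype.card F := by
      have := Fintype.one_lt_card (α := F)
      obtain ⟨t, ht⟩ := ho
      omega
    have hperf : commutator (Matrix.symplecticGroup (Fin m) F) = ⊤ := by
      refine Cfsg.Agent.S0269.result m ?_
      by_cases h2 : m = 2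
      · exact Or.inr (Or.inl ⟨h2, hs3⟩)
      · left; omega
    rw [← top_le_iff]
    intro y _
    obtain ⟨k, rfl⟩ := QuotientGroup.mk'_surjective (Subgroup.center (symplecticGroup (Fin m) F)) y
    have h2 : k ∈ commutator (symplecticGroup (Fin m) F) := by rw [hperf]; trivial
    have h3 : QuotientGroup.mk' (Subgroup.center (symplecticGroup (Fin m) F)) k ∈
        (commutator (symplecticGroup (Fin m) F)).map (QuotientGroup.mk' _) := ⟨k, h2, rfl⟩
    rw [commutator_def, Subgroup.map_commutator] at h3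
    rw [commutator_def]
    exact Subgroup.commutator_mono le_top le_top h3

theorem minDeg_psp {m : ℕ} (hm : 1 ≤ m) (ho : Odd (Fintype.card F)) :
    Cfsg.Agent.H122.MinDeg (PSp m F) ((Fintype.card F ^ m - 1) / 2) := by
  refine (Cfsg.Agent.H123.RowPSp.minDeg_odd ?_ hm).of_surjective
    (QuotientGroup.mk' (Subgroup.center (symplecticGroup (Fin m) F))) (QuotientGroup.mk'_surjective _)
  intro h2
  have h3 : ringChar F = 2 := by
    have := (ringChar.spec F 2).1 (by exact_mod_cast h2)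
    rcases (Nat.dvd_prime Nat.prime_two).1 this with h | h
    · exact absurd h (CharP.ringChar_ne_one)
    · exact h
  have h4 := FiniteField.even_card_of_char_two h3
  obtain ⟨t, ht⟩ := ho
  omega

variable {V : Type} [AddCommGroup V] [Finite V]

/-- **`p` prime to `s |Sp_2m-2(s)|`** -/
theorem psp_top (m : ℕ) (hm : 2 ≤ m) (ho : Odd (Fintype.card F)) [DistribMulAction (PSp m F) V]
    (hpF : ¬ p ∣ Fintype.card F) (h1 : ¬ p ∣ Nat.card (symplecticGroup (Fin (m - 1)) F)) : ¬ PSit p q (PSp m F) V := by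
  intro h
  have : Fact p.Prime := ⟨h.hp⟩
  have hcov := cover_id (F := F) hm ho
  have hmin := minDeg_psp (F := F) (m := m) (by omega) ho
  have hq7 : 7 ≤ q := seven_le hm ho h.hq h.qG
  have hord := order_top hm h.hp hpF (h.pG.trans (Subgroup.card_quotient_dvd_card _)) h1
  obtain ⟨x, hx⟩ := exists_prime_orderOf_dvd_card' p h.pG
  have hcent := card_cent_top hm ho h.hp hpF hord hx
  have hpC : p ∣ Nat.card (Subgroup.centralizer ({x} : Set (PSp m F))) := by
    have h2 := Subgroup.orderOf_dvd_natCard (Subgroup.centralizer ({x} : Set (PSp m F)))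
      (Subgroup.mem_centralizer_singleton_iff.2 rfl : x ∈ _)
    rwa [hx] at h2
  have hN := index_mul_cent_le x
  have hcard := card_PSp_two (F := F) (m := m) (by omega) ho
  have hs3 : 3 ≤ Fintype.card F := by
    have := Fintype.one_lt_card (α := F)
    obtain ⟨t, ht⟩ := ho
    omega
  have hp2 := h.hp.two_le
  have hpo := h.odd
  have : IsSimpleGroup (PSp m F) := Cfsg.Agent.S0270.result m hm (fun _ => hs3)
  have hch := fun (c : ℕ) (hc : Nat.card (Subgroup.centralizer ({x} : Set (PSp m F))) ≤ c ^ 2) =>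
    h.ch_elt hcov hmin x hx hc
  by_cases e1 : m = 2 ∧ Fintype.card F = 3
  · obtain ⟨rfl, hF⟩ := e1
    rw [hF] at hcent hcard
    have hS : Nat.card (PSp 2 F) = 25920 := by
      have : (3 : ℕ) ^ (2 ^ 2) * ∏ i ∈ Finset.range 2, (3 ^ (2 * (i + 1)) - 1) = 2 * 25920 := by decide
      omega
    have hC : Nat.card (Subgroup.centralizer ({x} : Set (PSp 2 F))) = 5 := by
      rcases hcent with h2 | h2
      · omega
      · exfalso
        have h3 : Nat.card (Subgroup.centralizer ({x} : Set (PSp 2 F))) = 4 := by omega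
        rw [h3] at hpC
        have h4 : p ∣ 2 := h.hp.dvd_of_dvd_pow (n := 2) (by norm_num; exact hpC)
        exact hpo ((Nat.prime_dvd_prime_iff_eq h.hp Nat.prime_two).1 h4)
    have hp5 : p = 5 := by
      rw [hC] at hpC
      exact (Nat.prime_dvd_prime_iff_eq h.hp (by norm_num)).1 hpC
    subst hp5
    obtain ⟨e, he, hNc, hmod, hprod⟩ := Cfsg.Agent.H306.QA.exists_card_normalizer' h.hp hx (by rw [hS]; norm_num)
    have hr := Cfsg.Agent.H973.QA.PSit.rank_one h hcov x hx he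
      (fun k hk => Cfsg.Agent.H306.QA.isConj_pow_of_card h.hp hx hNc hk)
    rw [hS, hC] at hprod
    have he4 : e ≤ 4 := Nat.le_of_dvd (by norm_num) he
    have h6 : e = 4 := by
      interval_cases e <;> omega
    subst h6
    have h7 : 7 ^ 4 ≤ q ^ 4 := Nat.pow_le_pow_left hq7 4
    have h8 : (7 : ℕ) ^ 4 = 2401 := by norm_num
    omega
  by_cases e2 : m = 2 ∧ Fintype.card F = 5
  · obtain ⟨rfl, hF⟩ := e2
    rw [hF] at hcent hcard hch
    have hS : Nat.card (PSp 2 F) = 4680000 := by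
      have : (5 : ℕ) ^ (2 ^ 2) * ∏ i ∈ Finset.range 2, (5 ^ (2 * (i + 1)) - 1) = 2 * 4680000 := by decide
      omega
    have h13 : Nat.card (Subgroup.centralizer ({x} : Set (PSp 2 F))) = 13 ∧ p = 13 := by
      rcases hcent with h2 | h2
      · have h3 : Nat.card (Subgroup.centralizer ({x} : Set (PSp 2 F))) = 13 := by omega
        rw [h3] at hpC
        exact ⟨h3, (Nat.prime_dvd_prime_iff_eq h.hp (by norm_num)).1 hpC⟩
      · exfalso
        have h3 : Nat.card (Subgroup.centralizer ({x} : Set (PSp 2 F))) = 12 := by omega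
        rw [h3] at hpC
        have h4 : p ∣ 2 ^ 2 * 3 := by norm_num; exact hpC
        rcases h.hp.dvd_mul.1 h4 with h5 | h5
        · exact hpo ((Nat.prime_dvd_prime_iff_eq h.hp Nat.prime_two).1 (h.hp.dvd_of_dvd_pow h5))
        · apply h1
          rw [(Nat.prime_dvd_prime_iff_eq h.hp Nat.prime_three).1 h5,
            show 2 - 1 = 1 from rfl, Cfsg.Agent.S0245.result (F := F) hF]
          decide
    obtain ⟨hC, rfl⟩ := h13
    have h2 := hch 4 (by rw [hC]; norm_num)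
    have h3 : 7 ^ 8 ≤ q ^ 8 := Nat.pow_le_pow_left hq7 8
    rw [hS, hC] at hN
    norm_num at h2 h3
    omega
  by_cases e3 : m = 3 ∧ Fintype.card F = 3
  · obtain ⟨rfl, hF⟩ := e3
    rw [hF] at hcent hcard hch
    have hS : Nat.card (PSp 3 F) = 4585351680 := by
      have : (3 : ℕ) ^ (3 ^ 2) * ∏ i ∈ Finset.range 3, (3 ^ (2 * (i + 1)) - 1) = 2 * 4585351680 := by decide
      omega
    have hq11 : 11 ≤ q := by
      by_contra hlt
      have hqS := h.qG
      rw [hS] at hqS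
      have hqp := h.hq
      interval_cases q
      · norm_num at hqS
      · norm_num at hqp
      · norm_num at hqp
      · norm_num at hqp
    have h3 : 11 ^ 8 ≤ q ^ 8 := Nat.pow_le_pow_left hq11 8
    rcases hcent with h2 | h2
    · have hC : Nat.card (Subgroup.centralizer ({x} : Set (PSp 3 F))) = 14 := by omega
      have hp7 : p = 7 := by
        rw [hC] at hpC
        have h4 : p ∣ 2 * 7 := hpC
        rcases h.hp.dvd_mul.1 h4 with h5 | h5
        · exact absurd ((Nat.prime_dvd_prime_iff_eq h.hp Nat.prime_two).1 h5) hpo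
        · exact (Nat.prime_dvd_prime_iff_eq h.hp (by norm_num)).1 h5
      subst hp7
      have h4 := hch 4 (by rw [hC]; norm_num)
      obtain ⟨e, he, hNc, hmod, hprod⟩ := Cfsg.Agent.H306.QA.exists_card_normalizer' h.hp hx (by rw [hS]; norm_num)
      rw [hS, hC] at hprod
      have he6 : e ≤ 6 := Nat.le_of_dvd (by norm_num) he
      norm_num at h4 h3
      interval_cases e <;> omega
    · have hC : Nat.card (Subgroup.centralizer ({x} : Set (PSp 3 F))) = 13 := by omega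
      have hp13 : p = 13 := by
        rw [hC] at hpC
        exact (Nat.prime_dvd_prime_iff_eq h.hp (by norm_num)).1 hpC
      subst hp13
      have h4 := hch 4 (by rw [hC]; norm_num)
      rw [hS, hC] at hN
      have h5 : 11 ^ 9 ≤ q ^ 9 := Nat.pow_le_pow_left hq11 9
      norm_num at h4 h5
      omega
  obtain ⟨hQ, hnum⟩ := num_main hs3 ho hm e1 e2 e3
  have hp5 : 5 ≤ p := by
    have h2 : orderOf ((Fintype.card F : ℕ) : ZMod p) ≤ p - 1 := by
      have h3 : ((Fintype.card F : ℕ) : ZMod p) ≠ 0 := by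
        rw [Ne, ZMod.natCast_eq_zero_iff]
        exact hpF
      have h4 := ZMod.pow_card_sub_one_eq_one h3
      exact Nat.le_of_dvd (by omega) (orderOf_dvd_of_pow_eq_one h4)
    have h3 : p ≠ 4 := by
      intro h4
      have := h.hp
      rw [h4] at this
      exact absurd this (by decide)
    rcases hord with h4 | ⟨h4, h5, h6⟩
    · omega
    · omega
  have hc2 : Nat.card (Subgroup.centralizer ({x} : Set (PSp m F))) ≤ ((Fintype.card F ^ m + 5) / 9) ^ 2 :=
    sq_ge hQ (by omega)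
  have h2 := hch _ hc2
  have h3 := index_top hm ho (x := x) (by omega)
  have h4 := exp_le (p := p) hp5 hQ
  have h5 : 7 ^ (Fintype.card F ^ m / 4) ≤ q ^ (Fintype.card F ^ m / 4) := Nat.pow_le_pow_left hq7 _
  have h6 : q ^ (Fintype.card F ^ m / 4) ≤ q ^ (((p - 1) * ((Fintype.card F ^ m - 1) / 2 -
    (Fintype.card F ^ m + 5) / 9) + (p - 1)) / p) := Nat.pow_le_pow_right (by omega) h4
  omega

end

end Cfsg.Agent.H54.QA
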